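import Mathlib
import Groth.Prelude.Def_EGA41

/-!
Formal smoothness of local algebras essentially of finite type: adic versus discrete.
-/

set_option autoImplicit false
universe u
open IsLocalRing TensorProduct KaehlerDifferential

namespace Groth.Agent.FSmoothLocal

/-- Localizations of polynomial rings have free differentials. -/
theorem free_finite_kaehler_localization (R : Type u) [CommRing R] (n : ℕ)
    (L : Type u) [CommRing L] [Algebra R L] [Algebra (MvPolynomial (Fin n) R) L]
    [IsScalarTower R (MvPolynomial (Fin n) R) L] (M : Submonoid (MvPolynomial (Fin n) R)) [IsLocalization M L] :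
    Module.Free L Ω[L⁄R] ∧ Module.Finite L Ω[L⁄R] := by
  haveI : Algebra.FormallyEtale (MvPolynomial (Fin n) R) L := Algebra.FormallyEtale.of_isLocalization M
  let b := ((mvPolynomialBasis R (Fin n)).baseChange L).map
    (KaehlerDifferential.isBaseChange_of_formallyEtale R (MvPolynomial (Fin n) R) L).equiv
  exact ⟨Module.Free.of_basis b, Module.Finite.of_basis b⟩

/-- A local algebra essentially of finite type is a quotient of a localized polynomial ring. -/
theorem exists_presentation (R S : Type u) [CommRing R] [IsNoetherianRing R] [CommRing S] [IsLocalRing S]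
    [Algebra R S] [Algebra.EssFiniteType R S] :
    ∃ (P : Type u) (_ : CommRing P) (_ : IsLocalRing P) (_ : IsNoetherianRing P) (_ : Algebra R P)
      (_ : Algebra P S) (_ : IsScalarTower R P S) (_ : Algebra.FormallySmooth R P)
      (_ : Module.Free P Ω[P⁄R]) (_ : Module.Finite P Ω[P⁄R]),
      Function.Surjective (algebraMap P S) := by
  classical
  obtain ⟨σ, hσ⟩ := (Algebra.essFiniteType_iff (R := R) (S := S)).1 inferInstance
  let v : Fin σ.card → S := fun i => (σ.equivFin.symm i : S)
  let φ : MvPolynomial (Fin σ.card) R →ₐ[R] S := MvPolynomial.aeval v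
  have hrange : Algebra.adjoin R (σ : Set S) = φ.range := by
    rw [← Algebra.adjoin_range_eq_range_aeval]
    congr 1
    ext x
    exact ⟨fun hx => ⟨σ.equivFin ⟨x, hx⟩, by simp [v]⟩, by rintro ⟨i, rfl⟩; exact (σ.equivFin.symm i).2⟩
  let q : Ideal (MvPolynomial (Fin σ.card) R) := (maximalIdeal S).comap φ
  haveI : q.IsPrime := Ideal.comap_isPrime _ _
  let P := Localization.AtPrime q
  have hu : ∀ y : q.primeCompl, IsUnit (φ y) := fun y => by
    by_contra h
    exact y.2 ((mem_maximalIdeal _).2 h)
  let ψ : P →ₐ[R] S := IsLocalization.liftAlgHom (f := φ) hu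
  letI : Algebra P S := ψ.toRingHom.toAlgebra
  haveI : IsScalarTower R P S := IsScalarTower.of_algHom ψ
  haveI : IsNoetherianRing P := IsLocalization.isNoetherianRing q.primeCompl P inferInstance
  haveI : Algebra.FormallySmooth (MvPolynomial (Fin σ.card) R) P := Algebra.FormallySmooth.of_isLocalization q.primeCompl
  obtain ⟨hfree, hfin⟩ := free_finite_kaehler_localization R σ.card P q.primeCompl
  refine ⟨P, inferInstance, inferInstance, inferInstance, inferInstance, inferInstance, inferInstance,
    Algebra.FormallySmooth.comp R (MvPolynomial (Fin σ.card) R) P, hfree, hfin, fun s => ?_⟩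
  obtain ⟨t, ht, htu, hst⟩ := hσ s
  rw [hrange] at ht hst
  obtain ⟨a, rfl⟩ := ht
  obtain ⟨b, hb⟩ := hst
  have ha : a ∈ q.primeCompl := fun h => (mem_maximalIdeal _).1 h htu
  refine ⟨IsLocalization.mk' P b ⟨a, ha⟩, htu.mul_right_cancel ?_⟩
  show ψ _ * φ a = s * φ a
  have h1 : ψ (algebraMap _ P a) = φ a := IsLocalization.lift_eq hu a
  rw [← h1, ← map_mul, show IsLocalization.mk' P b ⟨a, ha⟩ * algebraMap _ P a = algebraMap _ P b from
    IsLocalization.mk'_spec P b ⟨a, ha⟩, h1, show ψ (algebraMap _ P b) = φ b from IsLocalization.lift_eq hu b]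
  exact hb

/-- Adic formal smoothness forces the Jacobian condition. -/
theorem injective_of_adic {R S P : Type u} [CommRing R] [IsLocalRing R] [CommRing S] [IsLocalRing S]
    [CommRing P] [IsLocalRing P] [IsNoetherianRing P] [Algebra R S] [IsLocalHom (algebraMap R S)]
    [Algebra R P] [Algebra P S] [IsScalarTower R P S] (hsurj : Function.Surjective (algebraMap P S))
    (h : EGA41.IsFormallySmoothAdic R (maximalIdeal R) S (maximalIdeal S)) :
    Function.Injective (cotangentComplexBaseChange R S P (ResidueField S)) := by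
  haveI : IsLocalHom (algebraMap P S) := IsLocalHom.of_surjective (algebraMap P S) hsurj
  set I := RingHom.ker (algebraMap P S) with hI
  set n := maximalIdeal P with hn
  have hsr : Function.Surjective (algebraMap P (ResidueField S)) := by
    rw [IsScalarTower.algebraMap_eq P S (ResidueField S)]
    exact Ideal.Quotient.mk_surjective.comp hsurj
  have hker : RingHom.ker (algebraMap P (ResidueField S)) = n := by
    haveI := RingHom.ker_isMaximal_of_surjective (algebraMap P (ResidueField S)) hsr
    exact IsLocalRing.eq_maximalIdeal inferInstance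
  have key : ∀ w : ResidueField S ⊗[P] I, ∃ x : I, w = (1 : ResidueField S) ⊗ₜ[P] x := by
    intro w
    induction w using TensorProduct.induction_on with
    | zero => exact ⟨0, by simp⟩
    | tmul a y =>
      obtain ⟨a, rfl⟩ := hsr a
      exact ⟨a • y, by rw [Algebra.algebraMap_eq_smul_one, TensorProduct.smul_tmul]⟩
    | add p q hp hq =>
      obtain ⟨x, rfl⟩ := hp
      obtain ⟨y, rfl⟩ := hq
      exact ⟨x + y, by rw [TensorProduct.tmul_add]⟩
  rw [injective_iff_map_eq_zero]
  intro ξ hξ
  obtain ⟨x, rfl⟩ := key ξ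
  -- `d x ∈ n Ω`
  have hD : D R P (x : P) ∈ n • (⊤ : Submodule P Ω[P⁄R]) := by
    let θ : (P ⧸ n) ≃ₐ[P] ResidueField S :=
      (Ideal.quotientEquivAlgOfEq P hker.symm).trans
        (Ideal.quotientKerAlgEquivOfSurjective (f := Algebra.ofId P (ResidueField S)) hsr)
    have h1 : (1 : ResidueField S) ⊗ₜ[P] D R P (x : P) = 0 := by
      rw [cotangentComplexBaseChange_tmul, one_smul] at hξ
      exact hξ
    have h2 := congrArg (fun z => quotTensorEquivQuotSMul Ω[P⁄R] n
      (TensorProduct.congr θ.toLinearEquiv.symm (LinearEquiv.refl P Ω[P⁄R]) z)) h1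
    simp only [TensorProduct.congr_tmul, LinearEquiv.refl_apply, map_zero] at h2
    rw [show θ.toLinearEquiv.symm 1 = 1 from map_one θ.symm, quotTensorEquivQuotSMul_mk_one_tmul,
      Submodule.Quotient.mk_eq_zero] at h2
    exact h2
  have hIn : I ≤ n := IsLocalRing.le_maximalIdeal (RingHom.ker_ne_top _)
  have hRn : (maximalIdeal R).map (algebraMap R P) ≤ n := by
    refine Ideal.map_le_iff_le_comap.2 fun r hr => ?_
    rw [Ideal.mem_comap, hn, mem_maximalIdeal] at *
    intro hu
    apply hr
    apply (isUnit_map_iff (algebraMap R S) r).1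
    rw [IsScalarTower.algebraMap_apply R P S]
    exact hu.map _
  have hmS : maximalIdeal S ≤ n.map (algebraMap P S) := fun z hz => by
    obtain ⟨p, rfl⟩ := hsurj z
    refine Ideal.mem_map_of_mem _ ?_
    rw [hn, mem_maximalIdeal] at *
    exact fun hu => hz (hu.map _)
  have hxk : ∀ k : ℕ, (x : P) ∈ n ^ k ⊔ n * I := by
    intro k
    let K : Ideal P := n ^ k ⊔ n * I
    let J : Ideal (P ⧸ K) := I.map (Ideal.Quotient.mk K)
    have hJn : ∀ c ∈ J, ∀ a ∈ n, Ideal.Quotient.mk K a * c = 0 := by
      intro c hc a ha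
      obtain ⟨i, hi, rfl⟩ := (Ideal.mem_map_iff_of_surjective _ Ideal.Quotient.mk_surjective).1 hc
      rw [← map_mul, Ideal.Quotient.eq_zero_iff_mem]
      exact Submodule.mem_sup_right (Ideal.mul_mem_mul ha hi)
    have hJJ : ∀ a ∈ J, ∀ b ∈ J, a * b = 0 := by
      intro a ha b hb
      obtain ⟨i, hi, rfl⟩ := (Ideal.mem_map_iff_of_surjective _ Ideal.Quotient.mk_surjective).1 ha
      exact hJn b hb i (hIn hi)
    have hJ2 : IsNilpotent J := ⟨2, by
      rw [pow_two, Ideal.zero_eq_bot, eq_bot_iff, Ideal.mul_le]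
      exact fun a ha b hb => (Submodule.mem_bot _).2 (hJJ a ha b hb)⟩
    have hk : ((maximalIdeal R) ^ k).map (algebraMap R (P ⧸ K)) = ⊥ := by
      rw [IsScalarTower.algebraMap_eq R P (P ⧸ K), ← Ideal.map_map, Ideal.map_pow, Ideal.Quotient.algebraMap_eq,
        Ideal.map_eq_bot_iff_le_ker, Ideal.mk_ker]
      exact (Ideal.pow_right_mono hRn k).trans le_sup_left
    let π : P →ₐ[R] P ⧸ K := Ideal.Quotient.mkₐ R K
    let e := Ideal.quotientKerAlgEquivOfSurjective (f := IsScalarTower.toAlgHom R P S) hsurj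
    let u : S →ₐ[R] (P ⧸ K) ⧸ J := (Ideal.Quotient.liftₐ (RingHom.ker (IsScalarTower.toAlgHom R P S))
      ((Ideal.Quotient.mkₐ R J).comp π) (fun i hi => Ideal.Quotient.eq_zero_iff_mem.2
        (Ideal.mem_map_of_mem _ hi))).comp e.symm.toAlgHom
    have hu : ∀ p : P, u (algebraMap P S p) = Ideal.Quotient.mk J (Ideal.Quotient.mk K p) := by
      intro p
      have : e.symm (algebraMap P S p) = Ideal.Quotient.mk _ p := by
        rw [AlgEquiv.symm_apply_eq]; rfl
      simp only [u, AlgHom.comp_apply]
      erw [this]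
      rfl
    obtain ⟨v, hv⟩ := h (P ⧸ K) J hJ2 ⟨k, hk⟩ u ⟨k, fun z hz => by
      have := Ideal.pow_right_mono hmS k hz
      rw [← Ideal.map_pow, Ideal.mem_map_iff_of_surjective _ hsurj] at this
      obtain ⟨p, hp, rfl⟩ := this
      rw [hu, Ideal.Quotient.eq_zero_iff_mem.2 (Submodule.mem_sup_left hp : p ∈ K), map_zero]⟩
    let g : P →ₐ[R] P ⧸ K := v.comp (IsScalarTower.toAlgHom R P S)
    have hΔ : ∀ p, π p - g p ∈ J := by
      intro p
      rw [← Ideal.Quotient.eq_zero_iff_mem, map_sub, sub_eq_zero]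
      exact ((AlgHom.congr_fun hv (algebraMap P S p)).trans (hu p)).symm
    let d₀ : P →ₗ[R] J :=
      LinearMap.codRestrict (J.restrictScalars R) (π.toLinearMap - g.toLinearMap) hΔ
    let d : Derivation R P J := Derivation.mk' d₀ fun a b => by
      apply Subtype.ext
      show π (a * b) - g (a * b) = ((a • d₀ b + b • d₀ a : J) : P ⧸ K)
      have h0 := hJJ _ (hΔ a) _ (hΔ b)
      simp only [Submodule.coe_add, SetLike.val_smul_of_tower, map_mul]
      rw [Algebra.smul_def, Algebra.smul_def]
      show π a * π b - g a * g b = π a * (π b - g b) + π b * (π a - g a)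
      linear_combination -h0
    have hL : ∀ w ∈ n • (⊤ : Submodule P Ω[P⁄R]), d.liftKaehlerDifferential w = 0 := by
      intro w hw
      refine Submodule.smul_induction_on hw (fun a ha z _ => ?_) (fun a b ha hb => by rw [map_add, ha, hb, add_zero])
      rw [map_smul]
      apply Subtype.ext
      rw [SetLike.val_smul_of_tower, Algebra.smul_def]
      exact hJn _ (d.liftKaehlerDifferential z).2 a ha
    have h0 := hL _ hD
    rw [Derivation.liftKaehlerDifferential_comp_D] at h0
    have h1 : π x - g x = 0 := congrArg Subtype.val h0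
    have hg0 : g x = 0 := by
      show v (algebraMap P S (x : P)) = 0
      rw [show algebraMap P S (x : P) = 0 from x.2, map_zero]
    rw [hg0, sub_zero] at h1
    exact Ideal.Quotient.eq_zero_iff_mem.1 h1
  have hx : (x : P) ∈ n * I := by
    haveI : Nontrivial (P ⧸ n * I) := Ideal.Quotient.nontrivial_iff.2 (ne_top_of_le_ne_top
      (maximalIdeal.isMaximal P).ne_top Ideal.mul_le_left)
    haveI : IsLocalRing (P ⧸ n * I) := IsLocalRing.of_surjective' _ Ideal.Quotient.mk_surjective
    rw [← Ideal.Quotient.eq_zero_iff_mem]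
    have hne : n.map (Ideal.Quotient.mk (n * I)) ≠ ⊤ := fun h => by
      refine (maximalIdeal.isMaximal P).ne_top ?_
      have h2 := congrArg (Ideal.comap (Ideal.Quotient.mk (n * I))) h
      rw [Ideal.comap_map_of_surjective' _ Ideal.Quotient.mk_surjective, Ideal.mk_ker,
        Ideal.comap_top, sup_eq_left.2 Ideal.mul_le_left] at h2
      exact h2
    rw [← Submodule.mem_bot (P ⧸ n * I), ← Ideal.iInf_pow_eq_bot_of_isLocalRing _ hne, Submodule.mem_iInf]
    intro k
    rw [← Ideal.map_pow]
    obtain ⟨a, ha, b, hb, hab⟩ := Submodule.mem_sup.1 (hxk k)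
    rw [← hab, map_add, Ideal.Quotient.eq_zero_iff_mem.2 hb, add_zero]
    exact Ideal.mem_map_of_mem _ ha
  obtain ⟨hz, h0⟩ : ∃ hz : (x : P) ∈ I, (1 : ResidueField S) ⊗ₜ[P] (⟨x, hz⟩ : I) = 0 := by
    refine Submodule.mul_induction_on hx (fun a ha y hy => ?_) (fun a b ⟨ha, h1⟩ ⟨hb, h2⟩ => ?_)
    · refine ⟨I.mul_mem_left a hy, ?_⟩
      rw [show (⟨a * y, I.mul_mem_left a hy⟩ : I) = a • ⟨y, hy⟩ from Subtype.ext rfl,
        ← TensorProduct.smul_tmul, ← Algebra.algebraMap_eq_smul_one,
        RingHom.mem_ker.1 (hker.symm ▸ ha : a ∈ RingHom.ker (algebraMap P (ResidueField S))), TensorProduct.zero_tmul]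
    · refine ⟨add_mem ha hb, ?_⟩
      rw [show (⟨a + b, add_mem ha hb⟩ : I) = ⟨a, ha⟩ + ⟨b, hb⟩ from rfl, TensorProduct.tmul_add, h1, h2, add_zero]
  exact h0

/-- Adic and discrete formal smoothness agree. -/
theorem adic_iff {R S : Type u} [CommRing R] [IsNoetherianRing R] [IsLocalRing R] [CommRing S] [IsLocalRing S]
    [Algebra R S] [IsLocalHom (algebraMap R S)] [Algebra.EssFiniteType R S] :
    EGA41.IsFormallySmoothAdic R (maximalIdeal R) S (maximalIdeal S) ↔ Algebra.FormallySmooth R S := by
  constructor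
  · intro h
    obtain ⟨P, _, _, _, _, _, _, _, _, _, hsurj⟩ := exists_presentation R S
    rw [Algebra.FormallySmooth.iff_injective_cotangentComplexBaseChange_residueField P hsurj
      (IsNoetherian.noetherian _)]
    exact injective_of_adic hsurj h
  · intro _ C _ _ J hJ _ u _
    exact ⟨Algebra.FormallySmooth.lift J hJ u, Algebra.FormallySmooth.comp_lift J hJ u⟩

end Groth.Agent.FSmoothLocal
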